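import Groth.Agent.CoradFil.Basic
import Groth.Agent.ComodLib.BaseChange
import Mathlib.RingTheory.Bialgebra.TensorProduct
import Mathlib.RingTheory.Flat.Basic

/-!
# The wedge filtration under base change, and descent to an arbitrary fibre
-/

set_option autoImplicit false

universe u v w

open TensorProduct

noncomputable section

namespace Groth.Agent.CoradFil

open Groth.Agent.ComodLib

variable {R : Type u} [CommRing R] {A : Type v} [CommRing A] [Bialgebra R A]

variable (K : Type w) [CommRing K] [Algebra R K]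

/-- `p ⊗ q ↦ (1 ⊗ p) ⊗ (1 ⊗ q)`. -/
def bcPair : A ⊗[R] A →ₗ[R] (K ⊗[R] A) ⊗[K] (K ⊗[R] A) :=
  TensorProduct.lift (((TensorProduct.mk K (K ⊗[R] A) (K ⊗[R] A)).restrictScalars₁₂ R R).compl₁₂
    (TensorProduct.mk R K A 1) (TensorProduct.mk R K A 1))

@[simp] theorem bcPair_tmul (p q : A) : bcPair (R := R) K (p ⊗ₜ[R] q) = ((1 : K) ⊗ₜ[R] p) ⊗ₜ[K] ((1 : K) ⊗ₜ[R] q) :=
  rfl

theorem comul_one_tmul (a : A) :
    Coalgebra.comul (R := K) ((1 : K) ⊗ₜ[R] a) = bcPair K (Coalgebra.comul (R := R) a) := by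
  rw [TensorProduct.comul_tmul]
  induction Coalgebra.comul (R := R) a using TensorProduct.induction_on with
  | zero => simp
  | tmul p q =>
    rw [show Coalgebra.comul (R := K) (1 : K) = (1 : K) ⊗ₜ[K] (1 : K) from rfl,
      AlgebraTensorModule.tensorTensorTensorComm_tmul, bcPair_tmul]
  | add p q hp hq => simp only [tmul_add, map_add, hp, hq]

theorem bcPair_range_rTensor {W : Submodule R A} {W' : Submodule K (K ⊗[R] A)}
    (hW : ∀ x ∈ W, (1 : K) ⊗ₜ[R] x ∈ W') {z : A ⊗[R] A} (hz : z ∈ LinearMap.range (W.subtype.rTensor A)) :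
    bcPair K z ∈ LinearMap.range (W'.subtype.rTensor (K ⊗[R] A)) := by
  obtain ⟨y, rfl⟩ := hz
  induction y using TensorProduct.induction_on with
  | zero => simp
  | tmul p q => exact ⟨⟨_, hW p p.2⟩ ⊗ₜ[K] ((1 : K) ⊗ₜ[R] q), rfl⟩
  | add p q hp hq => rw [map_add, map_add]; exact Submodule.add_mem _ hp hq

theorem bcPair_range_lTensor {W : Submodule R A} {W' : Submodule K (K ⊗[R] A)}
    (hW : ∀ x ∈ W, (1 : K) ⊗ₜ[R] x ∈ W') {z : A ⊗[R] A} (hz : z ∈ LinearMap.range (W.subtype.lTensor A)) :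
    bcPair K z ∈ LinearMap.range (W'.subtype.lTensor (K ⊗[R] A)) := by
  obtain ⟨y, rfl⟩ := hz
  induction y using TensorProduct.induction_on with
  | zero => simp
  | tmul p q => exact ⟨((1 : K) ⊗ₜ[R] p) ⊗ₜ[K] ⟨_, hW q q.2⟩, rfl⟩
  | add p q hp hq => rw [map_add, map_add]; exact Submodule.add_mem _ hp hq

/-- Wedge powers go to wedge powers. -/
theorem one_tmul_mem_wedge {S : Submodule R A} {S' : Submodule K (K ⊗[R] A)}
    (hS : ∀ s ∈ S, (1 : K) ⊗ₜ[R] s ∈ S') : ∀ (r : ℕ), ∀ a ∈ wedge S r, (1 : K) ⊗ₜ[R] a ∈ wedge S' r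
  | 0, a, ha => hS a ha
  | r + 1, a, ha => by
    simp only [wedge, Submodule.mem_comap] at ha ⊢
    obtain ⟨x, hx, y, hy, hxy⟩ := Submodule.mem_sup.1 ha
    rw [comul_one_tmul, ← hxy, map_add]
    exact Submodule.add_mem_sup (bcPair_range_rTensor K (one_tmul_mem_wedge hS r) hx)
      (bcPair_range_lTensor K hS hy)

/-- A family of elements of the form `1 ⊗ a` detects exhaustiveness. -/
theorem exh_of_forall_one_tmul {S' : Submodule K (K ⊗[R] A)} (hm : Monotone (wedge S'))
    (h : ∀ a : A, ∃ r, (1 : K) ⊗ₜ[R] a ∈ wedge S' r) : Exh S' := by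
  intro x
  induction x using TensorProduct.induction_on with
  | zero => exact ⟨0, Submodule.zero_mem _⟩
  | tmul s a =>
    obtain ⟨r, hr⟩ := h a
    refine ⟨r, ?_⟩
    rw [show s ⊗ₜ[R] a = s • ((1 : K) ⊗ₜ[R] a) by rw [smul_tmul', smul_eq_mul, mul_one]]
    exact Submodule.smul_mem _ s hr
  | add p q hp hq =>
    obtain ⟨r, hr⟩ := hp
    obtain ⟨s, hs⟩ := hq
    exact ⟨max r s, Submodule.add_mem _ (hm (le_max_left _ _) hr) (hm (le_max_right _ _) hs)⟩

theorem exh_one_baseChange (h : Exh (Submodule.span R {(1 : A)})) :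
    Exh (Submodule.span K {(1 : K ⊗[R] A)}) := by
  refine exh_of_forall_one_tmul K wedge_one_mono fun a => ?_
  obtain ⟨r, hr⟩ := h a
  refine ⟨r, one_tmul_mem_wedge K (fun s hs => ?_) r a hr⟩
  obtain ⟨c, rfl⟩ := Submodule.mem_span_singleton.1 hs
  rw [TensorProduct.tmul_smul]
  exact Submodule.smul_of_tower_mem _ c (Submodule.mem_span_singleton_self _)

theorem exh_glSpan_baseChange (h : Exh (glSpan R A)) : Exh (glSpan K (K ⊗[R] A)) := by
  refine exh_of_forall_one_tmul K wedge_gl_mono fun a => ?_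
  obtain ⟨r, hr⟩ := h a
  refine ⟨r, one_tmul_mem_wedge K (fun s hs => ?_) r a hr⟩
  induction hs using Submodule.span_induction with
  | mem g hg =>
    refine Submodule.subset_span ⟨?_, ?_⟩
    · rw [TensorProduct.counit_tmul, hg.counit_eq_one]
      simp
    · rw [comul_one_tmul, hg.comul_eq_tmul_self, bcPair_tmul]
  | zero => rw [tmul_zero]; exact Submodule.zero_mem _
  | add x y _ _ hx hy => rw [tmul_add]; exact Submodule.add_mem _ hx hy
  | smul c x _ hx => rw [tmul_smul]; exact Submodule.smul_of_tower_mem _ c hx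

section Fibre

variable [Module.Flat R A] (L : Type w) [Field L] [Algebra R L] [FaithfulSMul R L]

theorem one_tmul_injective : Function.Injective fun a : A => (1 : L) ⊗ₜ[R] a := fun a b hab => by
  have hi := Module.Flat.rTensor_preserves_injective_linearMap (M := A) (Algebra.linearMap R L)
    (FaithfulSMul.algebraMap_injective R L)
  have := @hi ((1 : R) ⊗ₜ[R] a) ((1 : R) ⊗ₜ[R] b) (by simpa using hab)
  simpa using congrArg (TensorProduct.lid R A) this

/-- The part of the wedge powers over `L` lying in `A` satisfies the wedge recursion over `R`. -/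
theorem one_tmul_mem_wedge_succ {r : ℕ} {x : A}
    (hx : (1 : L) ⊗ₜ[R] x ∈ wedge (Submodule.span L {(1 : L ⊗[R] A)}) (r + 1)) :
    Coalgebra.comul (R := R) x - x ⊗ₜ[R] (1 : A) ∈
      LinearMap.range ((((wedge (Submodule.span L {(1 : L ⊗[R] A)}) r).restrictScalars R).comap
        (TensorProduct.mk R L A 1)).subtype.rTensor A) := by
  set C := wedge (Submodule.span L {(1 : L ⊗[R] A)}) r with hC
  set D := (C.restrictScalars R).comap (TensorProduct.mk R L A 1) with hD
  -- over `L`, the defect lies in `C ⊗ A`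
  let p : L ⊗[R] A →ₗ[L] L ⊗[R] A :=
    LinearMap.id - (LinearMap.toSpanSingleton L (L ⊗[R] A) 1).comp (Coalgebra.counit (R := L) (A := L ⊗[R] A))
  have hp1 : p 1 = 0 := by simp [p, Bialgebra.counit_one]
  have hpart : p.lTensor (L ⊗[R] A) (Coalgebra.comul (R := L) ((1 : L) ⊗ₜ[R] x)) =
      bcPair L (Coalgebra.comul (R := R) x - x ⊗ₜ[R] (1 : A)) := by
    have h1 : p.lTensor (L ⊗[R] A) (Coalgebra.comul (R := L) ((1 : L) ⊗ₜ[R] x)) =
        Coalgebra.comul (R := L) ((1 : L) ⊗ₜ[R] x) - ((1 : L) ⊗ₜ[R] x) ⊗ₜ[L] (1 : L ⊗[R] A) := by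
      simp only [p, LinearMap.lTensor_sub, LinearMap.lTensor_comp, LinearMap.sub_apply, LinearMap.comp_apply,
        Coalgebra.lTensor_counit_comul, LinearMap.lTensor_id, LinearMap.id_apply, LinearMap.lTensor_tmul,
        LinearMap.toSpanSingleton_apply, one_smul]
    rw [h1, comul_one_tmul, map_sub, bcPair_tmul]
    rfl
  have hmem : bcPair L (Coalgebra.comul (R := R) x - x ⊗ₜ[R] (1 : A)) ∈
      LinearMap.range (C.subtype.rTensor (L ⊗[R] A)) := by
    rw [← hpart]
    simp only [wedge, Submodule.mem_comap] at hx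
    obtain ⟨a, ⟨a', rfl⟩, b, ⟨b', rfl⟩, hab⟩ := Submodule.mem_sup.1 hx
    rw [← hab, map_add]
    refine Submodule.add_mem _ ⟨p.lTensor C a', ?_⟩ ?_
    · rw [← LinearMap.comp_apply, ← LinearMap.comp_apply, LinearMap.rTensor_comp_lTensor,
        LinearMap.lTensor_comp_rTensor]
    · have h0 : p.comp (Submodule.span L {(1 : L ⊗[R] A)}).subtype = 0 := LinearMap.ext fun s => by
        obtain ⟨c, hc⟩ := Submodule.mem_span_singleton.1 s.2
        simp [← hc, hp1]
      rw [← LinearMap.comp_apply, ← LinearMap.lTensor_comp, h0, LinearMap.lTensor_zero, LinearMap.zero_apply]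
      exact Submodule.zero_mem _
  -- descend along the injection `A/D → (L ⊗ A)/C`, using flatness of `A`
  let ι : A ⧸ D →ₗ[R] (L ⊗[R] A) ⧸ C :=
    D.mapQ (C.restrictScalars R) (TensorProduct.mk R L A 1) le_rfl
  have hι : Function.Injective ι := by
    rw [← LinearMap.ker_eq_bot, Submodule.eq_bot_iff]
    intro q hq
    obtain ⟨a, rfl⟩ := Submodule.Quotient.mk_surjective _ q
    rw [LinearMap.mem_ker] at hq
    exact (Submodule.Quotient.mk_eq_zero _).2 ((Submodule.Quotient.mk_eq_zero C).1 hq)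
  let q : (L ⊗[R] A) ⊗[L] (L ⊗[R] A) →ₗ[L] ((L ⊗[R] A) ⧸ C) ⊗[R] A :=
    (AlgebraTensorModule.cancelBaseChange R L L ((L ⊗[R] A) ⧸ C) A).toLinearMap ∘ₗ C.mkQ.rTensor _
  have hq : ∀ z : A ⊗[R] A, q (bcPair L z) = ι.rTensor A (D.mkQ.rTensor A z) := fun z => by
    induction z using TensorProduct.induction_on with
    | zero => simp
    | tmul a b =>
      simp only [q, bcPair_tmul, LinearMap.comp_apply, LinearMap.rTensor_tmul, LinearEquiv.coe_coe,
        AlgebraTensorModule.cancelBaseChange_tmul, one_smul]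
      rfl
    | add a b ha hb => simp only [map_add, ha, hb]
  have h0 : q (bcPair L (Coalgebra.comul (R := R) x - x ⊗ₜ[R] (1 : A))) = 0 := by
    obtain ⟨y, hy⟩ := hmem
    rw [← hy, LinearMap.comp_apply, ← LinearMap.rTensor_comp_apply,
      show C.mkQ.comp C.subtype = 0 from (LinearMap.exact_subtype_mkQ C).linearMap_comp_eq_zero,
      LinearMap.rTensor_zero, LinearMap.zero_apply, map_zero]
  rw [hq] at h0
  exact LinearMap.mem_range.2 ((rTensor_exact A (LinearMap.exact_subtype_mkQ D) D.mkQ_surjective _).1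
    (Module.Flat.rTensor_preserves_injective_linearMap ι hι (h0.trans (map_zero _).symm)))

/-- Exhaustiveness passes from the fibre at a field containing `R` to every base change. -/
theorem exh_one_of_exh_fibre (h : Exh (Submodule.span L {(1 : L ⊗[R] A)})) :
    Exh (Submodule.span K {(1 : K ⊗[R] A)}) := by
  have key : ∀ (r : ℕ) (x : A), (1 : L) ⊗ₜ[R] x ∈ wedge (Submodule.span L {(1 : L ⊗[R] A)}) r →
      (1 : K) ⊗ₜ[R] x ∈ wedge (Submodule.span K {(1 : K ⊗[R] A)}) r := by
    intro r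
    induction r with
    | zero =>
      intro x hx
      obtain ⟨c, hc⟩ := Submodule.mem_span_singleton.1 hx
      have hε := congrArg (Coalgebra.counit (R := L)) hc
      rw [map_smul, Bialgebra.counit_one, TensorProduct.counit_tmul] at hε
      have hx1 : x = Coalgebra.counit (R := R) x • (1 : A) := by
        refine one_tmul_injective (R := R) (A := A) L ?_
        show (1 : L) ⊗ₜ[R] x = (1 : L) ⊗ₜ[R] _
        rw [← hc, TensorProduct.tmul_smul]
        rw [show c = Coalgebra.counit (R := R) x • (1 : L) by simpa [Algebra.smul_def] using hε, smul_assoc, one_smul]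
        rfl
      rw [hx1, TensorProduct.tmul_smul]
      exact Submodule.smul_of_tower_mem _ _ (Submodule.mem_span_singleton_self _)
    | succ r ih =>
      intro x hx
      obtain ⟨y, hy⟩ := one_tmul_mem_wedge_succ L hx
      simp only [wedge, Submodule.mem_comap]
      rw [comul_one_tmul, ← sub_add_cancel (Coalgebra.comul (R := R) x) (x ⊗ₜ[R] (1 : A)), map_add, bcPair_tmul]
      exact Submodule.add_mem_sup (bcPair_range_rTensor K (fun a ha => ih a ha) ⟨y, hy⟩)
        ⟨((1 : K) ⊗ₜ[R] x) ⊗ₜ[K] ⟨_, Submodule.mem_span_singleton_self (1 : K ⊗[R] A)⟩, rfl⟩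
  refine exh_of_forall_one_tmul K wedge_one_mono fun a => ?_
  obtain ⟨r, hr⟩ := h ((1 : L) ⊗ₜ[R] a)
  exact ⟨r, key r a hr⟩

end Fibre

end Groth.Agent.CoradFil
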