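import Groth.Agent.CoradFil.Basic
import Mathlib.GroupTheory.Nilpotent
import Mathlib.RingTheory.HopfAlgebra.Convolution
import Mathlib.RingTheory.Polynomial.Pochhammer
import Mathlib.RingTheory.Jacobson.Ideal
import Mathlib.RingTheory.Bialgebra.TensorProduct
import Mathlib.Algebra.CharP.Algebra
import Mathlib.RingTheory.FiniteType

/-!
# Points of unipotent groups: nilpotence, powers, connectedness
-/

set_option autoImplicit false

universe u v w

open TensorProduct WithConv
open scoped commutatorElement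

noncomputable section

namespace Groth.Agent.CoradFil

section Points

variable {k : Type u} [CommRing k] {A : Type v} [CommRing A] [Bialgebra k A]
  {K : Type w} [CommRing K] [Algebra k K] (S : Submodule k A)

/-- Functionals killing the bottom step. -/
def kill : Submodule ℤ (WithConv (A →ₗ[k] K)) where
  carrier := {f | ∀ a ∈ S, f.ofConv a = 0}
  add_mem' {f g} hf hg a ha := by
    show (f.ofConv + g.ofConv) a = 0
    rw [LinearMap.add_apply, hf a ha, hg a ha, add_zero]
  zero_mem' _ _ := rfl
  smul_mem' n f hf a ha := by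
    show (n • f.ofConv) a = 0
    rw [LinearMap.smul_apply, hf a ha, smul_zero]

theorem kill_pow_apply {n : ℕ} {f : WithConv (A →ₗ[k] K)} (hf : f ∈ kill S ^ (n + 1)) :
    ∀ a ∈ wedge S n, f.ofConv a = 0 := by
  induction n generalizing f with
  | zero => rw [pow_one] at hf; exact hf
  | succ n ih =>
    intro a ha
    rw [pow_succ] at hf
    induction hf using Submodule.mul_induction_on' with
    | add x _ y _ hx hy =>
      show (x.ofConv + y.ofConv) a = 0
      rw [LinearMap.add_apply, hx, hy, add_zero]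
    | mem_mul_mem u hu v hv =>
      rw [LinearMap.convMul_apply]
      have ha' : Coalgebra.comul (R := k) a ∈
          LinearMap.range ((wedge S n).subtype.rTensor A) ⊔ LinearMap.range (S.subtype.lTensor A) := ha
      obtain ⟨x, ⟨x', rfl⟩, y, ⟨y', rfl⟩, hxy⟩ := Submodule.mem_sup.1 ha'
      rw [← hxy, map_add, map_add]
      have e1 : LinearMap.mul' k K (TensorProduct.map u.ofConv v.ofConv ((wedge S n).subtype.rTensor A x')) = 0 := by
        clear hxy
        induction x' using TensorProduct.induction_on with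
        | zero => simp
        | add p q hp hq => simp only [map_add, hp, hq, add_zero]
        | tmul p q => simp [ih hu p p.2]
      have e2 : LinearMap.mul' k K (TensorProduct.map u.ofConv v.ofConv (S.subtype.lTensor A y')) = 0 := by
        clear hxy
        induction y' using TensorProduct.induction_on with
        | zero => simp
        | add p q hp hq => simp only [map_add, hp, hq, add_zero]
        | tmul p q => simp [hv q q.2]
      rw [e1, e2, add_zero]

/-- A point, as a functional. -/
def lin : WithConv (A →ₐ[k] K) →* WithConv (A →ₗ[k] K) where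
  toFun g := toConv g.ofConv.toLinearMap
  map_one' := rfl
  map_mul' g h := by
    refine WithConv.ofConv_injective (LinearMap.ext fun a => ?_)
    rw [LinearMap.convMul_apply]
    show (g * h).ofConv a = _
    rw [AlgHom.convMul_apply]
    simp only [ofConv_toConv]
    induction Coalgebra.comul (R := k) a using TensorProduct.induction_on with
    | zero => simp
    | tmul p q => simp
    | add p q hp hq => simp only [map_add, hp, hq]

theorem lin_injective : Function.Injective (lin (k := k) (A := A) (K := K)) := fun _ _ h =>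
  WithConv.ofConv_injective (AlgHom.toLinearMap_injective (congrArg WithConv.ofConv h))

theorem lin_apply (g : WithConv (A →ₐ[k] K)) (a : A) : (lin g).ofConv a = g.ofConv a := rfl

theorem lin_sub_one_mem_one_span (g : WithConv (A →ₐ[k] K)) :
    lin g - 1 ∈ kill (K := K) (Submodule.span k {(1 : A)}) := by
  intro a ha
  obtain ⟨c, rfl⟩ := Submodule.mem_span_singleton.1 ha
  show ((lin g).ofConv - (1 : WithConv (A →ₗ[k] K)).ofConv) (c • 1) = 0
  rw [LinearMap.sub_apply, lin_apply]
  simp [LinearMap.convOne_def, Algebra.algebraMap_eq_smul_one]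

theorem eq_one_of_mem_pow {N : ℕ} {s : Set A} (hs : Algebra.adjoin k s = ⊤) (hN : s ⊆ wedge S N)
    {g : WithConv (A →ₐ[k] K)} (hg : lin g - 1 ∈ kill (K := K) S ^ (N + 1)) : g = 1 := by
  refine WithConv.ofConv_injective (AlgHom.ext_of_adjoin_eq_top hs fun a ha => ?_)
  have := kill_pow_apply S hg a (hN ha)
  change ((lin g).ofConv - (1 : WithConv (A →ₗ[k] K)).ofConv) a = 0 at this
  rw [LinearMap.sub_apply, sub_eq_zero] at this
  exact this

/-- A subspace stable under the comultiplication on both sides. -/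
structure IsBi : Prop where
  left : ∀ s ∈ S, Coalgebra.comul (R := k) s ∈ LinearMap.range (S.subtype.rTensor A)
  right : ∀ s ∈ S, Coalgebra.comul (R := k) s ∈ LinearMap.range (S.subtype.lTensor A)

variable {S}

theorem isBi_one : IsBi (k := k) (Submodule.span k {(1 : A)}) := by
  refine ⟨fun s hs => ?_, fun s hs => comul_one_span_mem hs⟩
  obtain ⟨c, rfl⟩ := Submodule.mem_span_singleton.1 hs
  refine ⟨(⟨c • 1, Submodule.smul_mem _ c (Submodule.mem_span_singleton_self 1)⟩ : Submodule.span k {(1 : A)}) ⊗ₜ[k] (1 : A), ?_⟩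
  rw [LinearMap.rTensor_tmul, map_smul, Bialgebra.comul_one, Algebra.TensorProduct.one_def, TensorProduct.smul_tmul']
  rfl

theorem isBi_gl : IsBi (k := k) (glSpan k A) := by
  refine ⟨fun s hs => ?_, fun s hs => comul_glSpan_mem hs⟩
  induction hs using Submodule.span_induction with
  | mem g hg =>
    refine ⟨(⟨g, Submodule.subset_span hg⟩ : glSpan k A) ⊗ₜ[k] g, ?_⟩
    rw [LinearMap.rTensor_tmul, hg.comul_eq_tmul_self]
    rfl
  | zero => rw [map_zero]; exact Submodule.zero_mem _
  | add x y _ _ hx hy => rw [map_add]; exact Submodule.add_mem _ hx hy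
  | smul c x _ hx => rw [map_smul]; exact Submodule.smul_mem _ c hx

theorem mul_kill (hS : IsBi S) (f : WithConv (A →ₗ[k] K)) {v : WithConv (A →ₗ[k] K)} (hv : v ∈ kill (K := K) S) :
    f * v ∈ kill (K := K) S := by
  intro a ha
  obtain ⟨z, hz⟩ := hS.right a ha
  rw [LinearMap.convMul_apply, ← hz]
  clear hz
  induction z using TensorProduct.induction_on with
  | zero => simp
  | add p q hp hq => simp only [map_add, hp, hq, add_zero]
  | tmul p q => simp [hv q q.2]

theorem kill_mul (hS : IsBi S) (f : WithConv (A →ₗ[k] K)) {v : WithConv (A →ₗ[k] K)} (hv : v ∈ kill (K := K) S) :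
    v * f ∈ kill (K := K) S := by
  intro a ha
  obtain ⟨z, hz⟩ := hS.left a ha
  rw [LinearMap.convMul_apply, ← hz]
  clear hz
  induction z using TensorProduct.induction_on with
  | zero => simp
  | add p q hp hq => simp only [map_add, hp, hq, add_zero]
  | tmul p q => simp [hv p p.2]

theorem mul_kill_pow (hS : IsBi S) (f : WithConv (A →ₗ[k] K)) {n : ℕ} {v : WithConv (A →ₗ[k] K)}
    (hv : v ∈ kill (K := K) S ^ (n + 1)) : f * v ∈ kill (K := K) S ^ (n + 1) := by
  induction n generalizing v with
  | zero => rw [pow_one] at hv ⊢; exact mul_kill hS f hv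
  | succ n ih =>
    rw [pow_succ] at hv ⊢
    induction hv using Submodule.mul_induction_on' with
    | add x _ y _ hx hy => rw [mul_add]; exact Submodule.add_mem _ hx hy
    | mem_mul_mem a ha b hb => rw [← mul_assoc]; exact Submodule.mul_mem_mul (ih ha) hb

theorem kill_pow_mul (hS : IsBi S) (f : WithConv (A →ₗ[k] K)) {n : ℕ} {v : WithConv (A →ₗ[k] K)}
    (hv : v ∈ kill (K := K) S ^ (n + 1)) : v * f ∈ kill (K := K) S ^ (n + 1) := by
  rw [pow_succ] at hv ⊢
  induction hv using Submodule.mul_induction_on' with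
  | add x _ y _ hx hy => rw [add_mul]; exact Submodule.add_mem _ hx hy
  | mem_mul_mem a ha b hb => rw [mul_assoc]; exact Submodule.mul_mem_mul ha (kill_mul hS f hb)

theorem kill_pow_anti (hS : IsBi S) {n m : ℕ} (h : n ≤ m) {v : WithConv (A →ₗ[k] K)}
    (hv : v ∈ kill (K := K) S ^ (m + 1)) : v ∈ kill (K := K) S ^ (n + 1) := by
  induction m, h using Nat.le_induction with
  | base => exact hv
  | succ m _ ih =>
    apply ih
    clear ih
    rw [pow_succ] at hv
    induction hv using Submodule.mul_induction_on' with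
    | add x _ y _ hx hy => exact Submodule.add_mem _ hx hy
    | mem_mul_mem a ha b _ => exact kill_pow_mul hS b ha

end Points

section Group

variable {k : Type u} [CommRing k] {A : Type v} [CommRing A] [HopfAlgebra k A] {K : Type w} [CommRing K]
  [Bialgebra k K] {S : Submodule k A}

variable (K) in
/-- The congruence subgroups. -/
def cong (hS : IsBi S) (n : ℕ) : Subgroup (WithConv (A →ₐ[k] K)) where
  carrier := {g | lin g - 1 ∈ kill (K := K) S ^ (n + 1)}
  one_mem' := by show lin (1 : WithConv (A →ₐ[k] K)) - 1 ∈ kill (K := K) S ^ (n + 1); rw [map_one, sub_self]; exact Submodule.zero_mem _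
  mul_mem' {g h} hg hh := by
    show lin (g * h) - 1 ∈ kill (K := K) S ^ (n + 1)
    rw [map_mul, show lin g * lin h - 1 = (lin g - 1) * lin h + (lin h - 1) by rw [sub_mul, one_mul]; abel]
    exact Submodule.add_mem _ (kill_pow_mul hS _ hg) hh
  inv_mem' {g} hg := by
    show lin g⁻¹ - 1 ∈ kill (K := K) S ^ (n + 1)
    rw [show lin g⁻¹ - 1 = -(lin g⁻¹ * (lin g - 1)) by
      rw [mul_sub, mul_one, ← map_mul, inv_mul_cancel, map_one, neg_sub]]
    exact Submodule.neg_mem _ (mul_kill_pow hS _ hg)

theorem mem_cong {hS : IsBi S} {n : ℕ} {g : WithConv (A →ₐ[k] K)} :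
    g ∈ cong K hS n ↔ lin g - 1 ∈ kill (K := K) S ^ (n + 1) := Iff.rfl

theorem cong_anti (hS : IsBi S) {n m : ℕ} (h : n ≤ m) : cong K hS m ≤ cong K hS n :=
  fun _ hg => kill_pow_anti hS h hg

theorem commutator_mem_cong (hS : IsBi S) {n m : ℕ} {x g : WithConv (A →ₐ[k] K)} (hx : x ∈ cong K hS n)
    (hg : g ∈ cong K hS m) : x * g * x⁻¹ * g⁻¹ ∈ cong K hS (n + m + 1) := by
  have hx' : lin x - 1 ∈ kill (K := K) S ^ (n + 1) := hx
  have hg' : lin g - 1 ∈ kill (K := K) S ^ (m + 1) := hg
  have e : lin (x * g * x⁻¹ * g⁻¹) - 1 =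
      ((lin x - 1) * (lin g - 1) - (lin g - 1) * (lin x - 1)) * (lin x⁻¹ * lin g⁻¹) := by
    rw [show (lin x - 1) * (lin g - 1) - (lin g - 1) * (lin x - 1) = lin x * lin g - lin g * lin x by noncomm_ring,
      sub_mul, ← map_mul, ← map_mul, ← map_mul, ← map_mul, ← map_mul]
    congr 2
    · group
    · rw [show g * x * (x⁻¹ * g⁻¹) = 1 by group, map_one]
  show lin (x * g * x⁻¹ * g⁻¹) - 1 ∈ kill (K := K) S ^ (n + m + 1 + 1)
  rw [e]
  refine kill_pow_mul hS _ ?_
  refine Submodule.sub_mem _ ?_ ?_
  · rw [show n + m + 1 + 1 = (n + 1) + (m + 1) by omega, pow_add]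
    exact Submodule.mul_mem_mul hx' hg'
  · rw [show n + m + 1 + 1 = (m + 1) + (n + 1) by omega, pow_add]
    exact Submodule.mul_mem_mul hg' hx'

theorem cong_one_zero (g : WithConv (A →ₐ[k] K)) : g ∈ cong K (isBi_one (k := k) (A := A)) 0 := by
  rw [mem_cong, pow_one]
  exact lin_sub_one_mem_one_span g

theorem exists_cong_eq_bot [Algebra.FiniteType k A] (hS : IsBi S) (h : Exh S) :
    ∃ N, cong K hS N = ⊥ := by
  obtain ⟨s, hs⟩ := (Algebra.FiniteType.out : (⊤ : Subalgebra k A).FG)
  obtain ⟨N, hN⟩ := exists_wedge_finset (wedge_mono hS.right) h s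
  exact ⟨N, (Subgroup.eq_bot_iff_forall _).2 fun g hg => eq_one_of_mem_pow S hs hN hg⟩

theorem isNilpotent_points [Algebra.FiniteType k A] (h : Exh (Submodule.span k {(1 : A)})) :
    Group.IsNilpotent (WithConv (A →ₐ[k] K)) := by
  obtain ⟨N, hN⟩ := exists_cong_eq_bot (K := K) isBi_one h
  refine (nilpotent_iff_finite_descending_central_series _).2 ⟨N, fun n => cong K (isBi_one (k := k) (A := A)) n,
    ⟨eq_top_iff.2 fun g _ => cong_one_zero g, fun x n hx g => ?_⟩, hN⟩
  exact commutator_mem_cong isBi_one (m := 0) hx (cong_one_zero g)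

theorem isSolvable_points [Algebra.FiniteType k A] (h : Exh (glSpan k A)) :
    Group.IsSolvable (WithConv (A →ₐ[k] K)) := by
  obtain ⟨N, hN⟩ := exists_cong_eq_bot (K := K) (isBi_gl (k := k) (A := A)) h
  refine (isSolvable_def _).2 ⟨N + 1, le_bot_iff.1 (hN ▸ ?_)⟩
  suffices ∀ n, derivedSeries (WithConv (A →ₐ[k] K)) (n + 1) ≤ cong K (isBi_gl (k := k) (A := A)) n from this N
  intro n
  induction n with
  | zero =>
    rw [derivedSeries_succ, derivedSeries_zero, Subgroup.commutator_le]
    intro x _ g _
    rw [mem_cong, pow_one]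
    intro a ha
    induction ha using Submodule.span_induction with
    | mem c hc =>
      have hmul : ∀ p q : WithConv (A →ₐ[k] K), (p * q).ofConv c = p.ofConv c * q.ofConv c := fun p q => by
        rw [AlgHom.convMul_apply, hc.comul_eq_tmul_self]; simp
      have hone : (1 : WithConv (A →ₐ[k] K)).ofConv c = 1 := by
        show algebraMap k K (Coalgebra.counit (R := k) c) = 1
        rw [hc.counit_eq_one, map_one]
      have h1 : ∀ p : WithConv (A →ₐ[k] K), p.ofConv c * p⁻¹.ofConv c = 1 := fun p => by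
        rw [← hmul, mul_inv_cancel, hone]
      show (⁅x, g⁆).ofConv c - (1 : WithConv (A →ₐ[k] K)).ofConv c = 0
      rw [commutatorElement_def, hmul, hmul, hmul, hone, sub_eq_zero]
      calc x.ofConv c * g.ofConv c * x⁻¹.ofConv c * g⁻¹.ofConv c
          = (x.ofConv c * x⁻¹.ofConv c) * (g.ofConv c * g⁻¹.ofConv c) := by ring
        _ = 1 := by rw [h1, h1, one_mul]
    | zero => exact map_zero _
    | add a b _ _ ha hb => rw [map_add, ha, hb, add_zero]
    | smul r a _ ha => rw [map_smul, ha, smul_zero]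
  | succ n ih =>
    rw [derivedSeries_succ, Subgroup.commutator_le]
    intro x hx g hg
    rw [commutatorElement_def]
    exact cong_anti isBi_gl (by omega) (commutator_mem_cong isBi_gl (ih hx) (ih hg))

theorem pow_mem_cong_succ (hS : IsBi S) {p : ℕ} (hp : p.Prime) (hpK : (p : K) = 0) {n : ℕ}
    {g : WithConv (A →ₐ[k] K)} (hg : g ∈ cong K hS n) : g ^ p ∈ cong K hS (n + 1) := by
  have hg' : lin g - 1 ∈ kill (K := K) S ^ (n + 1) := hg
  obtain ⟨r, hr⟩ := (Commute.one_right (lin g - 1)).exists_add_pow_prime_eq hp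
  have h0 : (p : WithConv (A →ₗ[k] K)) = 0 := by
    refine WithConv.ofConv_injective (LinearMap.ext fun a => ?_)
    rw [← nsmul_one]
    show p • (1 : WithConv (A →ₗ[k] K)).ofConv a = 0
    rw [nsmul_eq_mul, hpK, zero_mul]
  rw [sub_add_cancel, one_pow, h0, zero_mul, zero_mul, zero_mul, add_zero] at hr
  rw [mem_cong, map_pow, hr, add_sub_cancel_right]
  obtain ⟨l, hl⟩ := Nat.exists_eq_add_of_le hp.two_le
  have hle : n + 1 ≤ (n + 1) * p - 1 := by
    have : (n + 1) * 2 ≤ (n + 1) * p := Nat.mul_le_mul_left _ hp.two_le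
    omega
  refine kill_pow_anti hS hle ?_
  rw [Nat.sub_add_cancel (Nat.one_le_iff_ne_zero.2 (Nat.mul_ne_zero (by omega) hp.ne_zero)), pow_mul]
  exact Submodule.pow_mem_pow _ hg' p

theorem pow_bijective_of_char [Algebra.FiniteType k A] (h : Exh (Submodule.span k {(1 : A)})) {p : ℕ}
    (hp : p.Prime) (hpK : (p : K) = 0) {e : ℕ} (he : ¬ p ∣ e) :
    Function.Bijective fun g : WithConv (A →ₐ[k] K) => g ^ e := by
  obtain ⟨N, hN⟩ := exists_cong_eq_bot (K := K) isBi_one h
  have hord : ∀ g : WithConv (A →ₐ[k] K), g ^ (p ^ N) = 1 := fun g => by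
    have : ∀ n, g ^ (p ^ n) ∈ cong K (isBi_one (k := k) (A := A)) n := fun n => by
      induction n with
      | zero => exact cong_one_zero _
      | succ n ih => rw [pow_succ, pow_mul]; exact pow_mem_cong_succ isBi_one hp hpK ih
    exact (Subgroup.mem_bot).1 (hN ▸ this N)
  have hcop : Nat.Coprime e (p ^ N) := Nat.Coprime.pow_right _ ((hp.coprime_iff_not_dvd.2 he).symm)
  obtain ⟨a, -, ha⟩ := Nat.exists_mul_mod_eq_of_coprime 1 hcop (Nat.pow_pos hp.pos).ne'
  have h2 : ∀ g : WithConv (A →ₐ[k] K), g ^ (e * a) = g := fun g => by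
    rw [pow_eq_pow_mod (e * a) (hord g), ha]
    rcases Nat.lt_or_ge 1 (p ^ N) with h1 | h1
    · rw [Nat.mod_eq_of_lt h1, pow_one]
    · have h1' : p ^ N = 1 := le_antisymm h1 (Nat.pow_pos hp.pos)
      have hg1 := hord g
      rw [h1', pow_one] at hg1
      rw [hg1, one_pow]
  exact ⟨fun g g' hgg => by
    have := congrArg (· ^ a) hgg
    simpa only [← pow_mul, h2] using this, fun g => ⟨g ^ a, by show (g ^ a) ^ e = g; rw [← pow_mul, mul_comm, h2]⟩⟩

end Group

section Poly

variable {k : Type u} [CommRing k] {A : Type v} [CommRing A] [Bialgebra k A] {K : Type w} [Field K] [CharZero K]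
  [Algebra k K]

theorem eq_of_eval_nat {P Q : Polynomial K} (h : ∀ n : ℕ, P.eval (n : K) = Q.eval (n : K)) : P = Q :=
  Polynomial.eq_of_infinite_eval_eq P Q <|
    (Set.infinite_range_of_injective (Nat.cast_injective (R := K))).mono (by rintro _ ⟨n, rfl⟩; exact h n)

theorem exists_poly (h : Exh (Submodule.span k {(1 : A)})) (g : WithConv (A →ₐ[k] K)) (a : A) :
    ∃ P : Polynomial K, ∀ n : ℕ, P.eval (n : K) = (g ^ n).ofConv a := by
  obtain ⟨r, hr⟩ := h a
  set u := lin g - 1
  refine ⟨∑ i ∈ Finset.range (r + 1), Polynomial.C ((u ^ i).ofConv a / (i.factorial : K)) * descPochhammer K i,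
    fun n => ?_⟩
  have hu : ∀ i, r < i → (u ^ i).ofConv a = 0 := fun i hi => by
    obtain ⟨l, rfl⟩ := Nat.exists_eq_add_one_of_ne_zero (show i ≠ 0 by omega)
    exact kill_pow_apply _ (Submodule.pow_mem_pow _ (lin_sub_one_mem_one_span g) (l + 1)) a
      (wedge_one_mono (by omega) hr)
  have e : (g ^ n).ofConv a = ∑ i ∈ Finset.range (n + 1), (Nat.choose n i : K) * (u ^ i).ofConv a := by
    rw [← lin_apply, map_pow, show lin g = u + 1 by simp [u], (Commute.one_right u).add_pow]
    simp only [one_pow, mul_one, WithConv.ofConv_sum, LinearMap.coe_sum, Finset.sum_apply]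
    refine Finset.sum_congr rfl fun i _ => ?_
    rw [← (Nat.cast_commute _ _).eq, ← nsmul_eq_mul]
    show Nat.choose n i • (u ^ i).ofConv a = _
    rw [nsmul_eq_mul]
  rw [e, Polynomial.eval_finset_sum]
  simp only [Polynomial.eval_mul, Polynomial.eval_C, descPochhammer_eval_eq_descFactorial,
    Nat.descFactorial_eq_factorial_mul_choose, Nat.cast_mul]
  rw [Finset.sum_congr rfl (fun i _ => show (u ^ i).ofConv a / (i.factorial : K) * ((i.factorial : K) * (Nat.choose n i : K)) =
      (Nat.choose n i : K) * (u ^ i).ofConv a by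
    rw [← mul_assoc, div_mul_cancel₀ _ (by exact_mod_cast i.factorial_ne_zero), mul_comm])]
  exact (Finset.sum_subset (Finset.range_subset_range.2 (show r + 1 ≤ max r n + 1 by omega)) fun i _ hi => by
      rw [hu i (by simpa using hi), mul_zero]).trans
    (Finset.sum_subset (Finset.range_subset_range.2 (show n + 1 ≤ max r n + 1 by omega)) fun i _ hi => by
      rw [Nat.choose_eq_zero_of_lt (by simpa using hi), Nat.cast_zero, zero_mul]).symm

/-- Composition with an algebra map, as a monoid map. -/
def push {R R' : Type w} [CommRing R] [Algebra k R] [CommRing R'] [Algebra k R'] (f : R →ₐ[k] R') :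
    WithConv (A →ₐ[k] R) →* WithConv (A →ₐ[k] R') where
  toFun g := toConv (f.comp g.ofConv)
  map_one' := WithConv.ofConv_injective (AlgHom.ext fun a => f.commutes _)
  map_mul' g g' := by
    refine WithConv.ofConv_injective (AlgHom.ext fun a => ?_)
    show f ((g * g').ofConv a) = _
    rw [AlgHom.convMul_apply, AlgHom.convMul_apply]
    simp only [ofConv_toConv]
    induction Coalgebra.comul (R := k) a using TensorProduct.induction_on with
    | zero => simp
    | tmul p q => simp
    | add p q hp hq => simp only [map_add, hp, hq]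

theorem exists_path (h : Exh (Submodule.span k {(1 : A)})) (g : WithConv (A →ₐ[k] K)) :
    ∃ gX : WithConv (A →ₐ[k] Polynomial K), ∀ n : ℕ,
      push ((Polynomial.aeval (n : K)).restrictScalars k) gX = g ^ n := by
  choose P hP using exists_poly h g
  let gX : A →ₐ[k] Polynomial K :=
    { toFun := P
      map_one' := eq_of_eval_nat fun n => by rw [hP, map_one, Polynomial.eval_one]
      map_mul' := fun a b => eq_of_eval_nat fun n => by rw [hP, map_mul, Polynomial.eval_mul, hP, hP]
      map_zero' := eq_of_eval_nat fun n => by rw [hP, map_zero, Polynomial.eval_zero]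
      map_add' := fun a b => eq_of_eval_nat fun n => by rw [hP, map_add, Polynomial.eval_add, hP, hP]
      commutes' := fun r => eq_of_eval_nat fun n => by
        rw [hP, AlgHom.commutes, IsScalarTower.algebraMap_apply k K (Polynomial K), Polynomial.algebraMap_eq,
          Polynomial.eval_C] }
  refine ⟨toConv gX, fun n => WithConv.ofConv_injective (AlgHom.ext fun a => ?_)⟩
  show Polynomial.aeval (n : K) (P a) = _
  rw [Polynomial.coe_aeval_eq_eval, hP]

theorem idem_apply (h : Exh (Submodule.span k {(1 : A)})) (g : A →ₐ[k] K) {e : A} (he : IsIdempotentElem e) :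
    g e = algebraMap k K (Coalgebra.counit (R := k) e) := by
  obtain ⟨gX, hgX⟩ := exists_path h (toConv g)
  have h0 : ∀ n : ℕ, Polynomial.eval (n : K) (gX.ofConv e) = ((toConv g) ^ n).ofConv e := fun n => by
    rw [← hgX n, ← Polynomial.coe_aeval_eq_eval]
    rfl
  have h1 : gX.ofConv e = 0 ∨ gX.ofConv e = 1 := IsIdempotentElem.iff_eq_zero_or_one.1 (he.map gX.ofConv)
  have e0 := h0 0
  have e1 := h0 1
  rw [pow_zero] at e0
  rw [pow_one] at e1
  show g e = (1 : WithConv (A →ₐ[k] K)).ofConv e
  rw [← e0, show g e = (toConv g).ofConv e from rfl, ← e1]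
  rcases h1 with h1 | h1 <;> simp [h1]

end Poly

section PolyPow

variable {k : Type u} [CommRing k] {A : Type v} [CommRing A] [Bialgebra k A] {K : Type w} [Field K] [CharZero K]
  [Algebra k K]

theorem pow_bijective_of_charZero (h : Exh (Submodule.span k {(1 : A)})) {e : ℕ} (he : e ≠ 0) :
    Function.Bijective fun g : WithConv (A →ₐ[k] K) => g ^ e := by
  choose gX hgX using exists_path (K := K) h
  let ev : K → (Polynomial K →ₐ[k] K) := fun t => (Polynomial.aeval t).restrictScalars k
  let sc : Polynomial K →ₐ[k] Polynomial K := (Polynomial.aeval ((e : Polynomial K) * Polynomial.X)).restrictScalars k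
  have hext : ∀ x y : WithConv (A →ₐ[k] Polynomial K), (∀ n : ℕ, push (ev (n : K)) x = push (ev (n : K)) y) → x = y :=
    fun x y hxy => WithConv.ofConv_injective (AlgHom.ext fun a => eq_of_eval_nat fun n => by
      have := congrArg (fun z => z.ofConv a) (hxy n)
      simp only [push, ev] at this
      simpa [Polynomial.coe_aeval_eq_eval] using this)
  have hevsc : ∀ t : K, (ev t).comp sc = ev ((e : K) * t) := fun t => by
    refine AlgHom.ext fun P => ?_
    show Polynomial.aeval t (Polynomial.aeval ((e : Polynomial K) * Polynomial.X) P) = Polynomial.aeval ((e : K) * t) P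
    rw [← Polynomial.aeval_algHom_apply]
    simp
  have hpp : ∀ (t : K) (x : WithConv (A →ₐ[k] Polynomial K)),
      push (ev t) (push sc x) = push (ev ((e : K) * t)) x := fun t x => by
    rw [← hevsc]
    rfl
  have key1 : ∀ g, gX g ^ e = push sc (gX g) := fun g => hext _ _ fun n => by
    rw [map_pow, hgX, hpp, show (e : K) * (n : K) = ((e * n : ℕ) : K) by push_cast; rfl, hgX, ← pow_mul, mul_comm]
  have key2 : ∀ g, gX (g ^ e) = push sc (gX g) := fun g => hext _ _ fun n => by
    rw [hgX, hpp, show (e : K) * (n : K) = ((e * n : ℕ) : K) by push_cast; rfl, hgX, ← pow_mul]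
  have he' : (e : K) * (e : K)⁻¹ = ((1 : ℕ) : K) := by
    rw [mul_inv_cancel₀ (Nat.cast_ne_zero.2 he), Nat.cast_one]
  refine ⟨fun g g' hgg => ?_, fun g => ⟨push (ev (e : K)⁻¹) (gX g), ?_⟩⟩
  · have h2 : ∀ g, push (ev (e : K)⁻¹) (gX (g ^ e)) = g := fun g => by
      rw [key2, hpp, he', hgX, pow_one]
    rw [← h2 g, ← h2 g']
    exact congrArg _ (congrArg gX hgg)
  · show push (ev (e : K)⁻¹) (gX g) ^ e = g
    rw [← map_pow, key1, hpp, he', hgX, pow_one]

end PolyPow

end Groth.Agent.CoradFil
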