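import Groth.Agent.ComodLib.Trig
import Mathlib.RingTheory.Coalgebra.GroupLike
import Mathlib.LinearAlgebra.TensorProduct.RightExactness

/-!
# The wedge filtration of a bialgebra and the criteria for unipotence and trigonalizability
-/

set_option autoImplicit false

universe u v w

open TensorProduct

noncomputable section

namespace Groth.Agent.CoradFil

open Groth.Agent.ComodLib

section Ring

variable {k : Type u} [CommRing k] {A : Type v} [CommRing A] [Bialgebra k A]

/-- The wedge powers of a subspace. -/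
def wedge (S : Submodule k A) : ℕ → Submodule k A
  | 0 => S
  | r + 1 => (LinearMap.range ((wedge S r).subtype.rTensor A) ⊔ LinearMap.range (S.subtype.lTensor A)).comap
      (Coalgebra.comul (R := k))

/-- Every element lies in some wedge power. -/
def Exh (S : Submodule k A) : Prop := ∀ a : A, ∃ r, a ∈ wedge S r

theorem wedge_mono {S : Submodule k A}
    (hS : ∀ s ∈ S, Coalgebra.comul (R := k) s ∈ LinearMap.range (S.subtype.lTensor A)) : Monotone (wedge S) := by
  refine monotone_nat_of_le_succ fun r => ?_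
  induction r with
  | zero => exact fun s hs => Submodule.mem_sup_right (hS s hs)
  | succ r ih =>
    intro a ha
    have inc : LinearMap.range ((wedge S r).subtype.rTensor A) ≤ LinearMap.range ((wedge S (r + 1)).subtype.rTensor A) := by
      rintro _ ⟨z, rfl⟩
      refine ⟨(Submodule.inclusion ih).rTensor A z, ?_⟩
      rw [← LinearMap.comp_apply, ← LinearMap.rTensor_comp]
      rfl
    exact SetLike.le_def.1 (sup_le_sup_right inc (LinearMap.range (S.subtype.lTensor A))) ha

theorem comul_one_span_mem {s : A} (hs : s ∈ Submodule.span k {(1 : A)}) :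
    Coalgebra.comul (R := k) s ∈ LinearMap.range ((Submodule.span k {(1 : A)}).subtype.lTensor A) := by
  obtain ⟨c, rfl⟩ := Submodule.mem_span_singleton.1 hs
  refine ⟨(c • (1 : A)) ⊗ₜ[k] ⟨1, Submodule.mem_span_singleton_self 1⟩, ?_⟩
  rw [LinearMap.lTensor_tmul, map_smul, Bialgebra.comul_one, Algebra.TensorProduct.one_def, TensorProduct.smul_tmul']
  rfl

theorem wedge_one_mono : Monotone (wedge (Submodule.span k {(1 : A)})) :=
  wedge_mono fun _ hs => comul_one_span_mem hs

variable (k A) in
/-- The span of the group-like elements. -/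
def glSpan : Submodule k A := Submodule.span k {g : A | IsGroupLikeElem k g}

theorem comul_glSpan_mem {s : A} (hs : s ∈ glSpan k A) :
    Coalgebra.comul (R := k) s ∈ LinearMap.range ((glSpan k A).subtype.lTensor A) := by
  induction hs using Submodule.span_induction with
  | mem g hg =>
    refine ⟨g ⊗ₜ[k] ⟨g, Submodule.subset_span hg⟩, ?_⟩
    rw [LinearMap.lTensor_tmul, hg.comul_eq_tmul_self]
    rfl
  | zero => rw [map_zero]; exact Submodule.zero_mem _
  | add x y _ _ hx hy => rw [map_add]; exact Submodule.add_mem _ hx hy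
  | smul c x _ hx => rw [map_smul]; exact Submodule.smul_mem _ c hx

theorem wedge_gl_mono : Monotone (wedge (glSpan k A)) := wedge_mono fun _ hs => comul_glSpan_mem hs

theorem exists_wedge_finset {S : Submodule k A} (hm : Monotone (wedge S)) (h : Exh S) (s : Finset A) :
    ∃ r, ↑s ⊆ (wedge S r : Set A) := by
  classical
  induction s using Finset.induction with
  | empty => exact ⟨0, by simp⟩
  | insert a s _ ih =>
    obtain ⟨r, hr⟩ := ih
    obtain ⟨q, hq⟩ := h a
    exact ⟨max r q, by
      rw [Finset.coe_insert]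
      exact Set.insert_subset (hm (le_max_right _ _) hq) (hr.trans (hm (le_max_left _ _)))⟩

end Ring

section Field

variable {k : Type u} [Field k] {A : Type v} [CommRing A] [Bialgebra k A]
  {V : Type v} [AddCommGroup V] [Module k V] [HopfRep.Comod k A V]

theorem mem_range_lTensor_iff (U : Submodule k A) (z : V ⊗[k] A) :
    z ∈ LinearMap.range (U.subtype.lTensor V) ↔ ∀ φ : A →ₗ[k] k, (∀ u ∈ U, φ u = 0) → slice φ z = 0 := by
  constructor
  · rintro ⟨y, rfl⟩ φ hφ
    induction y using TensorProduct.induction_on with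
    | zero => simp
    | add p q hp hq => simp only [map_add, hp, hq, add_zero]
    | tmul p q => simp [hφ q q.2]
  · intro h
    refine ((lTensor_exact V (LinearMap.exact_subtype_mkQ U) U.mkQ_surjective) z).1 ?_
    refine eq_zero_of_forall_slice_eq_zero fun φ => ?_
    rw [slice_lTensor]
    exact h _ fun u hu => by rw [LinearMap.comp_apply, Submodule.mkQ_apply, (Submodule.Quotient.mk_eq_zero U).2 hu, map_zero]

theorem mem_range_rTensor_of_mkQ {M : Type v} [AddCommGroup M] [Module k M] {N : Type v} [AddCommGroup N] [Module k N]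
    (W : Submodule k M) {z : M ⊗[k] N} (h : W.mkQ.rTensor N z = 0) : z ∈ LinearMap.range (W.subtype.rTensor N) :=
  LinearMap.mem_range.2 ((rTensor_exact N (LinearMap.exact_subtype_mkQ W) W.mkQ_surjective z).1 h)

/-- A non-trivial comodule over an exhaustively filtered bialgebra has a vector with coaction in the bottom step. -/
theorem exists_coact_mem {S : Submodule k A} (hm : Monotone (wedge S)) (h : Exh S) {v₀ : V} (hv₀ : v₀ ≠ 0) :
    ∃ v : V, v ≠ 0 ∧ HopfRep.Comod.coact (k := k) (A := A) v ∈ LinearMap.range (S.subtype.lTensor V) := by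
  classical
  have hex : ∃ r, ∃ v : V, v ≠ 0 ∧
      HopfRep.Comod.coact (k := k) (A := A) v ∈ LinearMap.range ((wedge S r).subtype.lTensor V) := by
    have incl : ∀ {a b : ℕ}, a ≤ b → LinearMap.range ((wedge S a).subtype.lTensor V) ≤
        LinearMap.range ((wedge S b).subtype.lTensor V) := fun {a b} hab z hz => by
      rw [mem_range_lTensor_iff] at hz ⊢
      exact fun φ hφ => hz φ fun u hu => hφ u (hm hab hu)
    have key : ∀ z : V ⊗[k] A, ∃ r, z ∈ LinearMap.range ((wedge S r).subtype.lTensor V) := fun z => by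
      induction z using TensorProduct.induction_on with
      | zero => exact ⟨0, Submodule.zero_mem _⟩
      | tmul x a => obtain ⟨r, hr⟩ := h a; exact ⟨r, x ⊗ₜ[k] ⟨a, hr⟩, rfl⟩
      | add p q hp hq =>
        obtain ⟨r, hr⟩ := hp
        obtain ⟨s, hs⟩ := hq
        exact ⟨max r s, Submodule.add_mem _ (incl (le_max_left _ _) hr) (incl (le_max_right _ _) hs)⟩
    obtain ⟨r, hr⟩ := key (HopfRep.Comod.coact (k := k) (A := A) v₀)
    exact ⟨r, v₀, hv₀, hr⟩
  have hS : ∀ {r}, Nat.find hex = r → ∃ v : V, v ≠ 0 ∧
      HopfRep.Comod.coact (k := k) (A := A) v ∈ LinearMap.range ((wedge S r).subtype.lTensor V) := fun {r} e =>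
    e ▸ Nat.find_spec hex
  rcases Nat.eq_zero_or_pos (Nat.find hex) with hr | hr
  · obtain ⟨v, hv, hc⟩ := hS hr
    refine ⟨v, hv, (mem_range_lTensor_iff S _).2 fun φ hφ => (mem_range_lTensor_iff _ _).1 hc φ fun u hu => hφ u ?_⟩
    simpa only [wedge] using hu
  · obtain ⟨r, hr⟩ : ∃ r, Nat.find hex = r + 1 := ⟨_, (Nat.succ_pred_eq_of_pos hr).symm⟩
    obtain ⟨v, hv, hc⟩ := hS hr
    refine ⟨v, hv, (mem_range_lTensor_iff S _).2 fun ψ hψ => ?_⟩
    by_contra hne
    refine Nat.find_min hex (m := r) (by omega) ⟨actF ψ v, hne, (mem_range_lTensor_iff _ _).2 fun φ hφ => ?_⟩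
    show actF φ (actF ψ v) = 0
    rw [show actF φ (actF ψ v) = actF (WithConv.toConv φ * WithConv.toConv ψ).ofConv v from
      (actF_convMul (WithConv.toConv φ) (WithConv.toConv ψ) v).symm, actF_apply]
    refine (mem_range_lTensor_iff _ _).1 hc _ fun u hu => ?_
    rw [LinearMap.convMul_apply]
    have hu' : Coalgebra.comul (R := k) u ∈
        LinearMap.range ((wedge S r).subtype.rTensor A) ⊔ LinearMap.range (S.subtype.lTensor A) := hu
    obtain ⟨x, ⟨x', rfl⟩, y, ⟨y', rfl⟩, hxy⟩ := Submodule.mem_sup.1 hu'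
    rw [← hxy, map_add, map_add]
    have e1 : LinearMap.mul' k k (TensorProduct.map φ ψ ((wedge S r).subtype.rTensor A x')) = 0 := by
      clear hxy
      induction x' using TensorProduct.induction_on with
      | zero => simp
      | add p q hp hq => simp only [map_add, hp, hq, add_zero]
      | tmul p q => simp [hφ p p.2]
    have e2 : LinearMap.mul' k k (TensorProduct.map φ ψ (S.subtype.lTensor A y')) = 0 := by
      clear hxy
      induction y' using TensorProduct.induction_on with
      | zero => simp
      | add p q hp hq => simp only [map_add, hp, hq, add_zero]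
      | tmul p q => simp [hψ q q.2]
    simp only [WithConv.ofConv_toConv]
    rw [e1, e2, add_zero]

theorem isUnipotent_of_exh (h : Exh (Submodule.span k {(1 : A)})) : HopfRep.IsUnipotent k A := by
  intro V _ _ _ _ _
  obtain ⟨v₀, hv₀⟩ := exists_ne (0 : V)
  obtain ⟨v, hv, hc⟩ := exists_coact_mem wedge_one_mono h hv₀
  refine (Submodule.ne_bot_iff _).2 ⟨v, (fixedPts_actF v).2 fun φ => ?_, hv⟩
  have h1 : actF (φ - φ 1 • Coalgebra.counit (R := k) (A := A)) v = 0 := by
    refine (mem_range_lTensor_iff _ _).1 hc _ fun u hu => ?_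
    obtain ⟨c, rfl⟩ := Submodule.mem_span_singleton.1 hu
    simp [Bialgebra.counit_one]
  rw [show φ - φ 1 • Coalgebra.counit (R := k) (A := A) = φ + (-(φ 1)) • Coalgebra.counit (R := k) (A := A) from
      LinearMap.ext fun a => by simp [sub_eq_add_neg],
    actF_add, LinearMap.add_apply, actF_smul, LinearMap.smul_apply, actF_counit,
    neg_smul, ← sub_eq_add_neg, sub_eq_zero] at h1
  exact h1

theorem exh_of_isUnipotent (hU : HopfRep.IsUnipotent k A) : Exh (Submodule.span k {(1 : A)}) := by
  intro a
  obtain ⟨U, hUf, haU, hUs⟩ := exists_finite_subcomod_mem (k := k) (C := A) (V := A) a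
  letI : HopfRep.Comod k A U := ComodSub.Comod.restr (HopfRep.Comod.regular k A) U hUs
  haveI := hUf
  obtain ⟨m, F, -, h0, hm, -, hstep⟩ := isUnipotent_iff_filtration.1 hU U inferInstance
  refine ⟨m, ?_⟩
  suffices ∀ i, ∀ u ∈ F i, (u : A) ∈ wedge (Submodule.span k {(1 : A)}) i from this m ⟨a, haU⟩ (hm ▸ Submodule.mem_top)
  intro i
  induction i with
  | zero =>
    intro u hu
    rw [h0, Submodule.mem_bot] at hu
    rw [hu]; exact Submodule.zero_mem _
  | succ i ih =>
    intro u hu
    obtain ⟨z, hz⟩ := hstep i u hu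
    show Coalgebra.comul (R := k) (u : A) ∈
      LinearMap.range ((wedge (Submodule.span k {(1 : A)}) i).subtype.rTensor A) ⊔ _
    have e : Coalgebra.comul (R := k) (u : A) = U.subtype.rTensor A ((F i).subtype.rTensor A z) + (u : A) ⊗ₜ[k] (1 : A) := by
      rw [hz, map_sub, LinearMap.rTensor_tmul, Submodule.subtype_apply, sub_add_cancel]
      exact (ComodSub.restr_coact_coe (HopfRep.Comod.regular k A) U hUs u).symm
    rw [e]
    refine Submodule.add_mem _ (Submodule.mem_sup_left ?_)
      (Submodule.mem_sup_right ⟨(u : A) ⊗ₜ[k] ⟨1, Submodule.mem_span_singleton_self 1⟩, rfl⟩)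
    clear hz e
    induction z using TensorProduct.induction_on with
    | zero => simp
    | add p q hp hq => rw [map_add, map_add]; exact Submodule.add_mem _ hp hq
    | tmul p q => exact ⟨(⟨(p.1 : A), ih p.1 p.2⟩ : wedge (Submodule.span k {(1 : A)}) i) ⊗ₜ[k] q, rfl⟩

/-- A simple comodule with a vector whose coefficients lie in the span of the group-likes is a line. -/
theorem finrank_eq_one_of_coact_mem (hs : HopfRep.IsSimpleComod k A V) {v : V} (hv : v ≠ 0)
    (hc : HopfRep.Comod.coact (k := k) (A := A) v ∈ LinearMap.range ((glSpan k A).subtype.lTensor V)) :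
    Module.finrank k V = 1 := by
  classical
  -- coordinates of the coaction on finitely many group-likes
  obtain ⟨s, x, hsum⟩ : ∃ (s : Finset {g : A // IsGroupLikeElem k g}) (x : {g : A // IsGroupLikeElem k g} → V),
      HopfRep.Comod.coact (k := k) (A := A) v = ∑ g ∈ s, x g ⊗ₜ[k] (g : A) := by
    obtain ⟨z, hz⟩ := hc
    rw [← hz]
    clear hz
    induction z using TensorProduct.induction_on with
    | zero => exact ⟨∅, 0, by simp⟩
    | tmul p q =>
      obtain ⟨q, hq⟩ := q
      rw [LinearMap.lTensor_tmul, Submodule.subtype_apply]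
      induction hq using Submodule.span_induction with
      | mem g hg => exact ⟨{⟨g, hg⟩}, fun _ => p, by simp⟩
      | zero => exact ⟨∅, 0, by simp⟩
      | add a b _ _ ha hb =>
        obtain ⟨s, x, hs⟩ := ha
        obtain ⟨t, y, ht⟩ := hb
        refine ⟨s ∪ t, fun g => (if g ∈ s then x g else 0) + if g ∈ t then y g else 0, ?_⟩
        simp only [TensorProduct.tmul_add, hs, ht, add_tmul, TensorProduct.ite_tmul, Finset.sum_add_distrib,
          Finset.sum_ite_mem]
        rw [Finset.inter_eq_right.2 Finset.subset_union_left, Finset.inter_eq_right.2 Finset.subset_union_right]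
      | smul c a _ ha =>
        obtain ⟨s, x, hs⟩ := ha
        exact ⟨s, fun g => c • x g, by rw [TensorProduct.tmul_smul, hs, Finset.smul_sum]; rfl⟩
    | add p q hp hq =>
      obtain ⟨s, x, hs⟩ := hp
      obtain ⟨t, y, ht⟩ := hq
      refine ⟨s ∪ t, fun g => (if g ∈ s then x g else 0) + if g ∈ t then y g else 0, ?_⟩
      simp only [map_add, hs, ht, add_tmul, TensorProduct.ite_tmul, Finset.sum_add_distrib, Finset.sum_ite_mem]
      rw [Finset.inter_eq_right.2 Finset.subset_union_left, Finset.inter_eq_right.2 Finset.subset_union_right]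
  obtain ⟨g, hgs, hg0⟩ : ∃ g ∈ s, x g ≠ 0 := by
    by_contra hx
    push Not at hx
    apply hv
    rw [← actF_counit (C := A) (k := k) v, actF_apply, hsum, map_sum]
    exact Finset.sum_eq_zero fun g hg => by rw [slice_tmul, hx g hg, smul_zero]
  -- isolate the coefficient of `g`
  have hli : LinearIndependent k (fun g : {g : A // IsGroupLikeElem k g} => (g : A)) :=
    linearIndepOn_isGroupLikeElem
  obtain ⟨φ, hφ⟩ : ∃ φ : A →ₗ[k] k, ∀ g' : {g : A // IsGroupLikeElem k g}, φ g' = if g' = g then 1 else 0 := by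
    obtain ⟨φ, hφ⟩ := LinearMap.exists_extend ((Finsupp.lapply g).comp hli.repr)
    refine ⟨φ, fun g' => ?_⟩
    have := LinearMap.congr_fun hφ ⟨(g' : A), Submodule.subset_span ⟨g', rfl⟩⟩
    simp only [LinearMap.comp_apply, Submodule.subtype_apply] at this
    rw [this, hli.repr_eq_single g' _ rfl, Finsupp.lapply_apply, Finsupp.single_apply]
  have hw : actF φ v = x g := by
    rw [actF_apply, hsum, map_sum, Finset.sum_eq_single_of_mem g hgs fun g' _ hne => by
      rw [slice_tmul, hφ, if_neg hne, zero_smul]]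
    rw [slice_tmul, hφ, if_pos rfl, one_smul]
  have hcoact : HopfRep.Comod.coact (k := k) (A := A) (x g) = x g ⊗ₜ[k] (g : A) := by
    refine ext_of_forall_slice_eq fun ψ => ?_
    rw [slice_tmul]
    conv_lhs => rw [← hw]
    show actF ψ (actF φ v) = _
    rw [show actF ψ (actF φ v) = actF (WithConv.toConv ψ * WithConv.toConv φ).ofConv v from
      (actF_convMul (WithConv.toConv ψ) (WithConv.toConv φ) v).symm, actF_apply, hsum, map_sum,
      Finset.sum_eq_single_of_mem g hgs fun g' _ hne => ?_]
    · rw [slice_tmul, LinearMap.convMul_apply, g.2.comul_eq_tmul_self]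
      simp [hφ]
    · rw [slice_tmul, LinearMap.convMul_apply, g'.2.comul_eq_tmul_self]
      simp [hφ, hne]
  rcases hs.2 (Submodule.span k {x g}) (by
      intro y hy
      obtain ⟨c, rfl⟩ := Submodule.mem_span_singleton.1 hy
      refine ⟨(c • (⟨x g, Submodule.mem_span_singleton_self _⟩ : Submodule.span k {x g})) ⊗ₜ[k] (g : A), ?_⟩
      rw [LinearMap.rTensor_tmul, map_smul, map_smul, hcoact, TensorProduct.smul_tmul']
      rfl) with h | h
  · exact absurd (Submodule.span_singleton_eq_bot.1 h) hg0
  · rw [← finrank_top, ← h, finrank_span_singleton hg0]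

theorem isTrigonalizable_of_exh (h : Exh (glSpan k A)) : HopfRep.IsTrigonalizable k A := by
  intro V _ _ _ _ hs
  haveI : Nontrivial V := hs.1
  obtain ⟨v₀, hv₀⟩ := exists_ne (0 : V)
  obtain ⟨v, hv, hc⟩ := exists_coact_mem wedge_gl_mono h hv₀
  exact finrank_eq_one_of_coact_mem hs hv hc

theorem exh_of_isTrigonalizable {B : Type v} [CommRing B] [Bialgebra k B] (hT : HopfRep.IsTrigonalizable k B) :
    Exh (glSpan k B) := by
  classical
  intro a
  obtain ⟨U, hUf, haU, hUs⟩ := exists_finite_subcomod_mem (k := k) (C := B) (V := B) a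
  letI : HopfRep.Comod k B U := ComodSub.Comod.restr (HopfRep.Comod.regular k B) U hUs
  haveI := hUf
  obtain ⟨F, hmono, hsub, htop, hrk⟩ := exists_flag hT U
  refine ⟨Module.finrank k U, ?_⟩
  suffices ∀ i ≤ Module.finrank k U, ∀ u ∈ F i, (u : B) ∈ wedge (glSpan k B) i from
    this _ le_rfl ⟨a, haU⟩ (htop ▸ Submodule.mem_top)
  intro i
  induction i with
  | zero =>
    intro _ u hu
    rw [Submodule.finrank_eq_zero.1 (hrk 0 (Nat.zero_le _)), Submodule.mem_bot] at hu
    rw [hu]; exact Submodule.zero_mem _
  | succ i ih =>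
    intro hi u hu
    have hle : F i ≤ F (i + 1) := hmono (Nat.le_succ i)
    obtain ⟨y, hy, hyi⟩ := SetLike.exists_of_lt (lt_of_le_of_ne hle fun e => by
      have h1 := hrk i (by omega)
      have h2 := hrk (i + 1) hi
      rw [e] at h1; omega)
    letI := ComodSub.Comod.quot (ComodSub.Comod.restr (HopfRep.Comod.regular k B) U hUs) (F i) (hsub i)
    have hq : Hoch.IsComodHom B (F i).mkQ := ComodSub.isComodHom_mkQ _ (F i) (hsub i)
    let L : Submodule k (U ⧸ F i) := (F (i + 1)).map (F i).mkQ
    have hLspan : L = Submodule.span k {(F i).mkQ y} := by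
      have hF : F (i + 1) = F i ⊔ Submodule.span k {y} := by
        refine (Submodule.eq_of_le_of_finrank_le (sup_le hle ((Submodule.span_singleton_le_iff_mem _ _).2 hy)) ?_).symm
        have h1 : F i < F i ⊔ Submodule.span k {y} := lt_of_le_of_ne le_sup_left fun e =>
          hyi (e ▸ Submodule.mem_sup_right (Submodule.mem_span_singleton_self y))
        have h2 := Submodule.finrank_lt_finrank_of_lt h1
        rw [hrk i (by omega)] at h2
        rw [hrk (i + 1) hi]
        omega
      simp only [L, hF, Submodule.map_sup, Submodule.mkQ_map_self, bot_sup_eq, Submodule.map_span, Set.image_singleton]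
    have hy0 : (F i).mkQ y ≠ 0 := fun h => hyi ((Submodule.Quotient.mk_eq_zero _).1 h)
    obtain ⟨χ, hχ⟩ : ∃ χ : B, HopfRep.Comod.coact (k := k) (A := B) ((F i).mkQ y) = (F i).mkQ y ⊗ₜ[k] χ := by
      have hm : (F i).mkQ y ∈ L := Submodule.mem_map_of_mem hy
      obtain ⟨z, hz⟩ := isSubcomod_map hq (hsub (i + 1)) _ hm
      rw [← hz]
      clear hz
      induction z using TensorProduct.induction_on with
      | zero => exact ⟨0, by simp⟩
      | add p q hp hq' =>
        obtain ⟨a, ha⟩ := hp
        obtain ⟨b, hb⟩ := hq'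
        exact ⟨a + b, by rw [map_add, tmul_add]; exact congrArg₂ (· + ·) ha hb⟩
      | tmul p q =>
        have hp : (p : U ⧸ F i) ∈ Submodule.span k {(F i).mkQ y} := hLspan ▸ p.2
        obtain ⟨c, hc⟩ := Submodule.mem_span_singleton.1 hp
        exact ⟨c • q, by rw [LinearMap.rTensor_tmul, Submodule.subtype_apply, ← hc, TensorProduct.smul_tmul]⟩
    have hgl : IsGroupLikeElem k χ := by
      have inj : ∀ {M : Type v} [AddCommGroup M] [Module k M] (b b' : M),
          (F i).mkQ y ⊗ₜ[k] b = (F i).mkQ y ⊗ₜ[k] b' → b = b' := by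
        intro M _ _ b b' h
        obtain ⟨l, hl⟩ := Module.Projective.exists_dual_ne_zero k hy0
        have h' := congrArg (fun z => TensorProduct.lid k M (l.rTensor M z)) h
        simp only [LinearMap.rTensor_tmul, TensorProduct.lid_tmul] at h'
        exact smul_right_injective M hl h'
      refine ⟨?_, ?_⟩
      · have h1 := LinearMap.congr_fun (HopfRep.Comod.counit_comp (k := k) (A := B) (V := U ⧸ F i)) ((F i).mkQ y)
        rw [LinearMap.comp_apply, hχ, LinearMap.lTensor_tmul] at h1
        have h2 := congrArg (TensorProduct.rid k _) h1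
        simp only [TensorProduct.rid_tmul, LinearMap.flip_apply, TensorProduct.mk_apply, one_smul] at h2
        exact smul_left_injective k hy0 (h2.trans (one_smul k _).symm)
      · have h1 := LinearMap.congr_fun (HopfRep.Comod.coassoc (k := k) (A := B) (V := U ⧸ F i)) ((F i).mkQ y)
        simp only [LinearMap.comp_apply, hχ, LinearMap.rTensor_tmul, LinearEquiv.coe_coe, TensorProduct.assoc_tmul,
          LinearMap.lTensor_tmul] at h1
        exact (inj _ _ h1).symm
    have hmem : HopfRep.Comod.coact (k := k) (A := B) u ∈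
        LinearMap.range ((F i).subtype.rTensor B) ⊔ LinearMap.range ((glSpan k B).subtype.lTensor U) := by
      have hu' : (F i).mkQ u ∈ Submodule.span k {(F i).mkQ y} := hLspan ▸ Submodule.mem_map_of_mem hu
      obtain ⟨c, hc⟩ := Submodule.mem_span_singleton.1 hu'
      have h2 : (F i).mkQ.rTensor B (HopfRep.Comod.coact (k := k) (A := B) u - u ⊗ₜ[k] χ) = 0 := by
        have h3 : (F i).mkQ.rTensor B (HopfRep.Comod.coact (k := k) (A := B) u) =
            HopfRep.Comod.coact (k := k) (A := B) ((F i).mkQ u) := (LinearMap.congr_fun hq u).symm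
        rw [map_sub, h3, ← hc, map_smul, hχ, LinearMap.rTensor_tmul, TensorProduct.smul_tmul', ← hc, sub_self]
      have h4 : HopfRep.Comod.coact (k := k) (A := B) u - u ⊗ₜ[k] χ ∈ LinearMap.range ((F i).subtype.rTensor B) :=
        mem_range_rTensor_of_mkQ (F i) h2
      rw [← sub_add_cancel (HopfRep.Comod.coact (k := k) (A := B) u) (u ⊗ₜ[k] χ)]
      exact Submodule.add_mem _
        (Submodule.mem_sup_left h4)
        (Submodule.mem_sup_right ⟨u ⊗ₜ[k] ⟨χ, Submodule.subset_span hgl⟩, rfl⟩)
    show Coalgebra.comul (R := k) (u : B) ∈ LinearMap.range ((wedge (glSpan k B) i).subtype.rTensor B) ⊔ _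
    rw [← show U.subtype.rTensor B (HopfRep.Comod.coact (k := k) (A := B) u) = Coalgebra.comul (R := k) (u : B) from
      ComodSub.restr_coact_coe (HopfRep.Comod.regular k B) U hUs u]
    obtain ⟨p, ⟨p', rfl⟩, q, ⟨q', rfl⟩, hpq⟩ := Submodule.mem_sup.1 hmem
    rw [← hpq, map_add]
    clear hpq hmem
    refine Submodule.add_mem _ (Submodule.mem_sup_left ?_) (Submodule.mem_sup_right ?_)
    · induction p' using TensorProduct.induction_on with
      | zero => simp
      | add a b ha hb => rw [map_add, map_add]; exact Submodule.add_mem _ ha hb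
      | tmul a b => exact ⟨(⟨(a.1 : B), ih (by omega) a.1 a.2⟩ : wedge (glSpan k B) i) ⊗ₜ[k] b, rfl⟩
    · induction q' using TensorProduct.induction_on with
      | zero => simp
      | add a b ha hb => rw [map_add, map_add]; exact Submodule.add_mem _ ha hb
      | tmul a b => exact ⟨(a : B) ⊗ₜ[k] b, rfl⟩

end Field

end Groth.Agent.CoradFil
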