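import Groth.Agent.CoradFil.BaseChange
import Mathlib.RingTheory.DiscreteValuationRing.Basic

/-!
# Trigonalizability passes from the generic fibre to every fibre over a discrete valuation ring
-/

set_option autoImplicit false

universe u v w

open TensorProduct

noncomputable section

namespace Groth.Agent.CoradFil

open Groth.Agent.ComodLib

section Field

variable {k : Type u} [Field k]

/-- In a trigonalizable group every element lies in a chain with group-like diagonal. -/
theorem exists_charChain {B : Type v} [CommRing B] [Bialgebra k B] (hT : HopfRep.IsTrigonalizable k B) (a : B) :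
    ∃ (n : ℕ) (C : ℕ → Submodule k B), C 0 = ⊥ ∧ a ∈ C n ∧ ∀ i < n, ∃ χ : B, IsGroupLikeElem k χ ∧
      ∀ u ∈ C (i + 1), Coalgebra.comul (R := k) u - u ⊗ₜ[k] χ ∈ LinearMap.range ((C i).subtype.rTensor B) := by
  classical
  obtain ⟨U, hUf, haU, hUs⟩ := exists_finite_subcomod_mem (k := k) (C := B) (V := B) a
  letI : HopfRep.Comod k B U := ComodSub.Comod.restr (HopfRep.Comod.regular k B) U hUs
  haveI := hUf
  obtain ⟨F, hmono, hsub, htop, hrk⟩ := exists_flag hT U
  refine ⟨Module.finrank k U, fun i => (F i).map U.subtype, ?_, ⟨⟨a, haU⟩, htop ▸ Submodule.mem_top, rfl⟩, ?_⟩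
  · show Submodule.map U.subtype (F 0) = ⊥
    rw [Submodule.finrank_eq_zero.1 (hrk 0 (Nat.zero_le _)), Submodule.map_bot]
  intro i hi
  suffices ∃ χ : B, IsGroupLikeElem k χ ∧ ∀ u ∈ F (i + 1),
      HopfRep.Comod.coact (k := k) (A := B) u - u ⊗ₜ[k] χ ∈ LinearMap.range ((F i).subtype.rTensor B) by
    obtain ⟨χ, hgl, hu⟩ := this
    refine ⟨χ, hgl, ?_⟩
    rintro _ ⟨u, hu', rfl⟩
    obtain ⟨z, hz⟩ := hu u hu'
    have e : Coalgebra.comul (R := k) (u : B) - (u : B) ⊗ₜ[k] χ = U.subtype.rTensor B ((F i).subtype.rTensor B z) := by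
      rw [hz, map_sub, LinearMap.rTensor_tmul, Submodule.subtype_apply]
      exact congrArg (· - (u : B) ⊗ₜ[k] χ) (ComodSub.restr_coact_coe (HopfRep.Comod.regular k B) U hUs u).symm
    show Coalgebra.comul (R := k) (u : B) - (u : B) ⊗ₜ[k] χ ∈ _
    rw [e]
    clear e hz
    induction z using TensorProduct.induction_on with
    | zero => simp
    | add p q hp hq => rw [map_add, map_add]; exact Submodule.add_mem _ hp hq
    | tmul p q => exact ⟨(⟨(p.1 : B), ⟨p.1, p.2, rfl⟩⟩ : (F i).map U.subtype) ⊗ₜ[k] q, rfl⟩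
  have hle : F i ≤ F (i + 1) := hmono (Nat.le_succ i)
  obtain ⟨y, hy, hyi⟩ := SetLike.exists_of_lt (lt_of_le_of_ne hle fun e => by
    have h1 := hrk i (by omega)
    have h2 := hrk (i + 1) hi
    rw [e] at h1; omega)
  letI := ComodSub.Comod.quot (ComodSub.Comod.restr (HopfRep.Comod.regular k B) U hUs) (F i) (hsub i)
  have hq : Hoch.IsComodHom B (F i).mkQ := ComodSub.isComodHom_mkQ _ (F i) (hsub i)
  let L : Submodule k (U ⧸ F i) := (F (i + 1)).map (F i).mkQ
  have hLspan : L = Submodule.span k {(F i).mkQ y} := by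
    have hF : F (i + 1) = F i ⊔ Submodule.span k {y} := by
      refine (Submodule.eq_of_le_of_finrank_le (sup_le hle ((Submodule.span_singleton_le_iff_mem _ _).2 hy)) ?_).symm
      have h1 : F i < F i ⊔ Submodule.span k {y} := lt_of_le_of_ne le_sup_left fun e =>
        hyi (e ▸ Submodule.mem_sup_right (Submodule.mem_span_singleton_self y))
      have h2 := Submodule.finrank_lt_finrank_of_lt h1
      rw [hrk i (by omega)] at h2
      rw [hrk (i + 1) hi]
      omega
    simp only [L, hF, Submodule.map_sup, Submodule.mkQ_map_self, bot_sup_eq, Submodule.map_span, Set.image_singleton]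
  have hy0 : (F i).mkQ y ≠ 0 := fun h => hyi ((Submodule.Quotient.mk_eq_zero _).1 h)
  obtain ⟨χ, hχ⟩ : ∃ χ : B, HopfRep.Comod.coact (k := k) (A := B) ((F i).mkQ y) = (F i).mkQ y ⊗ₜ[k] χ := by
    have hm : (F i).mkQ y ∈ L := Submodule.mem_map_of_mem hy
    obtain ⟨z, hz⟩ := isSubcomod_map hq (hsub (i + 1)) _ hm
    rw [← hz]
    clear hz
    induction z using TensorProduct.induction_on with
    | zero => exact ⟨0, by simp⟩
    | add p q hp hq' =>
      obtain ⟨a, ha⟩ := hp
      obtain ⟨b, hb⟩ := hq'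
      exact ⟨a + b, by rw [map_add, tmul_add]; exact congrArg₂ (· + ·) ha hb⟩
    | tmul p q =>
      have hp : (p : U ⧸ F i) ∈ Submodule.span k {(F i).mkQ y} := hLspan ▸ p.2
      obtain ⟨c, hc⟩ := Submodule.mem_span_singleton.1 hp
      exact ⟨c • q, by rw [LinearMap.rTensor_tmul, Submodule.subtype_apply, ← hc, TensorProduct.smul_tmul]⟩
  have hgl : IsGroupLikeElem k χ := by
    have inj : ∀ {M : Type v} [AddCommGroup M] [Module k M] (b b' : M),
        (F i).mkQ y ⊗ₜ[k] b = (F i).mkQ y ⊗ₜ[k] b' → b = b' := by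
      intro M _ _ b b' h
      obtain ⟨l, hl⟩ := Module.Projective.exists_dual_ne_zero k hy0
      have h' := congrArg (fun z => TensorProduct.lid k M (l.rTensor M z)) h
      simp only [LinearMap.rTensor_tmul, TensorProduct.lid_tmul] at h'
      exact smul_right_injective M hl h'
    refine ⟨?_, ?_⟩
    · have h1 := LinearMap.congr_fun (HopfRep.Comod.counit_comp (k := k) (A := B) (V := U ⧸ F i)) ((F i).mkQ y)
      rw [LinearMap.comp_apply, hχ, LinearMap.lTensor_tmul] at h1
      have h2 := congrArg (TensorProduct.rid k _) h1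
      simp only [TensorProduct.rid_tmul, LinearMap.flip_apply, TensorProduct.mk_apply, one_smul] at h2
      exact smul_left_injective k hy0 (h2.trans (one_smul k _).symm)
    · have h1 := LinearMap.congr_fun (HopfRep.Comod.coassoc (k := k) (A := B) (V := U ⧸ F i)) ((F i).mkQ y)
      simp only [LinearMap.comp_apply, hχ, LinearMap.rTensor_tmul, LinearEquiv.coe_coe, TensorProduct.assoc_tmul,
        LinearMap.lTensor_tmul] at h1
      exact (inj _ _ h1).symm
  refine ⟨χ, hgl, fun u hu => mem_range_rTensor_of_mkQ (F i) ?_⟩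
  have hu' : (F i).mkQ u ∈ Submodule.span k {(F i).mkQ y} := hLspan ▸ Submodule.mem_map_of_mem hu
  obtain ⟨c, hc⟩ := Submodule.mem_span_singleton.1 hu'
  have h3 : (F i).mkQ.rTensor B (HopfRep.Comod.coact (k := k) (A := B) u) =
      HopfRep.Comod.coact (k := k) (A := B) ((F i).mkQ u) := (LinearMap.congr_fun hq u).symm
  rw [map_sub, h3, ← hc, map_smul, hχ, LinearMap.rTensor_tmul, TensorProduct.smul_tmul', ← hc, sub_self]

end Field

section DVR

variable {R : Type u} [CommRing R] [IsDomain R] [IsDiscreteValuationRing R]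
  {A : Type v} [CommRing A] [Bialgebra R A] [Module.Flat R A]
  (L : Type w) [Field L] [Algebra R L] [IsFractionRing R L]
  (K : Type w) [CommRing K] [Algebra R K]

theorem bcPair_injective [FaithfulSMul R L] : Function.Injective (bcPair (R := R) (A := A) L) := by
  intro x y hxy
  have key : ∀ z : A ⊗[R] A, bcPair L z =
      TensorProduct.AlgebraTensorModule.distribBaseChange R L A A ((1 : L) ⊗ₜ[R] z) := by
    intro z
    induction z using TensorProduct.induction_on with
    | zero => simp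
    | tmul p q => simp
    | add p q hp hq => simp only [tmul_add, map_add, hp, hq]
  rw [key, key] at hxy
  have h := (LinearEquiv.injective _) hxy
  have hi := Module.Flat.rTensor_preserves_injective_linearMap (M := A ⊗[R] A) (Algebra.linearMap R L)
    (FaithfulSMul.algebraMap_injective R L)
  have := @hi ((1 : R) ⊗ₜ[R] x) ((1 : R) ⊗ₜ[R] y) (by simpa using h)
  simpa using congrArg (TensorProduct.lid R (A ⊗[R] A)) this

theorem mem_range_rTensor_comap (C : Submodule L (L ⊗[R] A)) {z₀ : A ⊗[R] A}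
    (hmem : bcPair L z₀ ∈ LinearMap.range (C.subtype.rTensor (L ⊗[R] A))) :
    z₀ ∈ LinearMap.range (((C.restrictScalars R).comap (TensorProduct.mk R L A 1)).subtype.rTensor A) := by
  set D := (C.restrictScalars R).comap (TensorProduct.mk R L A 1) with hD
  -- descend along the injection `A/D → (L ⊗ A)/C`, using flatness of `A`
  let ι : A ⧸ D →ₗ[R] (L ⊗[R] A) ⧸ C :=
    D.mapQ (C.restrictScalars R) (TensorProduct.mk R L A 1) le_rfl
  have hι : Function.Injective ι := by
    rw [← LinearMap.ker_eq_bot, Submodule.eq_bot_iff]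
    intro q hq
    obtain ⟨a, rfl⟩ := Submodule.Quotient.mk_surjective _ q
    rw [LinearMap.mem_ker] at hq
    exact (Submodule.Quotient.mk_eq_zero _).2 ((Submodule.Quotient.mk_eq_zero C).1 hq)
  let q : (L ⊗[R] A) ⊗[L] (L ⊗[R] A) →ₗ[L] ((L ⊗[R] A) ⧸ C) ⊗[R] A :=
    (AlgebraTensorModule.cancelBaseChange R L L ((L ⊗[R] A) ⧸ C) A).toLinearMap ∘ₗ C.mkQ.rTensor _
  have hq : ∀ z : A ⊗[R] A, q (bcPair L z) = ι.rTensor A (D.mkQ.rTensor A z) := fun z => by
    induction z using TensorProduct.induction_on with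
    | zero => simp
    | tmul a b =>
      simp only [q, bcPair_tmul, LinearMap.comp_apply, LinearMap.rTensor_tmul, LinearEquiv.coe_coe,
        AlgebraTensorModule.cancelBaseChange_tmul, one_smul]
      rfl
    | add a b ha hb => simp only [map_add, ha, hb]
  have h0 : q (bcPair L z₀) = 0 := by
    obtain ⟨y, hy⟩ := hmem
    rw [← hy, LinearMap.comp_apply, ← LinearMap.rTensor_comp_apply,
      show C.mkQ.comp C.subtype = 0 from (LinearMap.exact_subtype_mkQ C).linearMap_comp_eq_zero,
      LinearMap.rTensor_zero, LinearMap.zero_apply, map_zero]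
  rw [hq] at h0
  exact LinearMap.mem_range.2 ((rTensor_exact A (LinearMap.exact_subtype_mkQ D) D.mkQ_surjective _).1
    (Module.Flat.rTensor_preserves_injective_linearMap ι hι (h0.trans (map_zero _).symm)))


/-- Group-like elements of the generic fibre are integral. -/
theorem exists_integral_groupLike {g : L ⊗[R] A} (hg : IsGroupLikeElem L g) :
    ∃ h : A, IsGroupLikeElem R h ∧ (1 : L) ⊗ₜ[R] h = g := by
  haveI : FaithfulSMul R L := (faithfulSMul_iff_algebraMap_injective R L).2 (IsFractionRing.injective R L)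
  have hinj := one_tmul_injective (R := R) (A := A) L
  obtain ⟨ϖ, hϖ⟩ := IsDiscreteValuationRing.exists_irreducible R
  have hϖ0 : ϖ ≠ 0 := hϖ.ne_zero
  have key : ∀ z : L ⊗[R] A, ∃ (n : ℕ) (x : A), (1 : L) ⊗ₜ[R] x = (algebraMap R L ϖ) ^ n • z := by
    intro z
    induction z using TensorProduct.induction_on with
    | zero => exact ⟨0, 0, by simp⟩
    | tmul c a =>
      obtain ⟨r, s, hs, rfl⟩ := IsFractionRing.div_surjective (A := R) c
      obtain ⟨n, w, rfl⟩ := IsDiscreteValuationRing.eq_unit_mul_pow_irreducible (nonZeroDivisors.ne_zero hs) hϖ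
      refine ⟨n, ((↑w⁻¹ : R) * r) • a, ?_⟩
      rw [TensorProduct.tmul_smul, TensorProduct.smul_tmul', TensorProduct.smul_tmul', Algebra.smul_def, mul_one, smul_eq_mul]
      congr 1
      have h1 : algebraMap R L (↑w : R) ≠ 0 := ((Units.isUnit w).map (algebraMap R L)).ne_zero
      have h2 : algebraMap R L ϖ ≠ 0 := (map_ne_zero_iff _ (IsFractionRing.injective R L)).2 hϖ0
      rw [map_mul, map_mul, map_pow, map_units_inv]
      field_simp
    | add p q hp hq =>
      obtain ⟨n, x, hx⟩ := hp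
      obtain ⟨m, y, hy⟩ := hq
      refine ⟨n + m, ϖ ^ m • x + ϖ ^ n • y, ?_⟩
      rw [TensorProduct.tmul_add, TensorProduct.tmul_smul, TensorProduct.tmul_smul, hx, hy,
        ← algebraMap_smul L (ϖ ^ m), ← algebraMap_smul L (ϖ ^ n), smul_smul, smul_smul, map_pow, map_pow, smul_add,
        pow_add, mul_comm ((algebraMap R L ϖ) ^ m)]
  classical
  have hex : ∃ n, ∃ x : A, (1 : L) ⊗ₜ[R] x = (algebraMap R L ϖ) ^ n • g := key g
  obtain ⟨x, hx⟩ := Nat.find_spec hex
  set n := Nat.find hex with hn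
  have hΔ : Coalgebra.comul (R := R) x * (ϖ ^ n • 1) = x ⊗ₜ[R] x := by
    apply bcPair_injective L
    have h1 : bcPair L (Coalgebra.comul (R := R) x * (ϖ ^ n • 1)) =
        (algebraMap R L ϖ) ^ n • Coalgebra.comul (R := L) ((1 : L) ⊗ₜ[R] x) := by
      rw [mul_smul_comm, mul_one, map_smul, ← comul_one_tmul, ← algebraMap_smul L (ϖ ^ n), map_pow]
    rw [h1, bcPair_tmul, hx, map_smul, hg.comul_eq_tmul_self]
    simp [TensorProduct.smul_tmul', TensorProduct.tmul_smul, smul_smul]
  have hcount : Coalgebra.counit (R := R) x = ϖ ^ n := by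
    apply IsFractionRing.injective R L
    have h1 := congrArg (Coalgebra.counit (R := L)) hx
    rw [TensorProduct.counit_tmul, map_smul, hg.counit_eq_one] at h1
    simpa [map_pow, Algebra.smul_def] using h1
  rcases Nat.eq_zero_or_pos n with h0 | h0
  · rw [h0, pow_zero, one_smul] at hx
    rw [h0, pow_zero, one_smul, mul_one] at hΔ
    rw [h0, pow_zero] at hcount
    exact ⟨x, ⟨hcount, hΔ⟩, hx⟩
  · exfalso
    let κ := IsLocalRing.ResidueField R
    have hπ0 : algebraMap R κ ϖ = 0 := (IsLocalRing.residue_eq_zero_iff ϖ).2 ((IsLocalRing.mem_maximalIdeal _).2 hϖ.not_isUnit)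
    have hx0 : (1 : κ) ⊗ₜ[R] x = 0 := by
      have h2 := congrArg (bcPair κ) hΔ
      rw [mul_smul_comm, mul_one, map_smul, bcPair_tmul, ← algebraMap_smul κ (ϖ ^ n), map_pow, hπ0, zero_pow h0.ne',
        zero_smul] at h2
      by_contra hne
      obtain ⟨l, hl⟩ := Module.Projective.exists_dual_ne_zero κ hne
      have h3 := congrArg (LinearMap.mul' κ κ ∘ₗ TensorProduct.map l l) h2
      simp only [map_zero, LinearMap.comp_apply, TensorProduct.map_tmul, LinearMap.mul'_apply] at h3
      exact mul_ne_zero hl hl h3.symm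
    obtain ⟨y, hy⟩ : ∃ y : A, x = ϖ • y := by
      have hex' := rTensor_exact A (f := (IsLocalRing.maximalIdeal R).subtype) (g := Algebra.linearMap R κ)
        (fun r => ⟨fun hr => ⟨⟨r, (IsLocalRing.residue_eq_zero_iff r).1 hr⟩, rfl⟩,
          fun ⟨r', hr'⟩ => by rw [← hr']; exact (IsLocalRing.residue_eq_zero_iff (r' : R)).2 r'.2⟩)
        IsLocalRing.residue_surjective
      obtain ⟨w, hw⟩ := (hex' ((1 : R) ⊗ₜ[R] x)).1 (by
        rw [LinearMap.rTensor_tmul, Algebra.linearMap_apply, map_one]; exact hx0)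
      have hx' : x = TensorProduct.lid R A ((IsLocalRing.maximalIdeal R).subtype.rTensor A w) := by
        rw [hw, TensorProduct.lid_tmul, one_smul]
      rw [hx']
      clear hw hx'
      induction w using TensorProduct.induction_on with
      | zero => exact ⟨0, by simp⟩
      | tmul r b =>
        obtain ⟨s, hs⟩ := Ideal.mem_span_singleton'.1 (hϖ.maximalIdeal_eq ▸ r.2 : (r : R) ∈ Ideal.span {ϖ})
        exact ⟨s • b, by rw [LinearMap.rTensor_tmul, TensorProduct.lid_tmul, Submodule.subtype_apply, ← hs,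
          mul_comm, mul_smul]⟩
      | add p q hp hq =>
        obtain ⟨a, ha⟩ := hp
        obtain ⟨b, hb⟩ := hq
        exact ⟨a + b, by rw [map_add, map_add, ha, hb, smul_add]⟩
    refine Nat.find_min hex (m := n - 1) (by omega) ⟨y, ?_⟩
    have hne : algebraMap R L ϖ ≠ 0 := (map_ne_zero_iff _ (IsFractionRing.injective R L)).2 hϖ0
    apply smul_right_injective (L ⊗[R] A) hne
    show algebraMap R L ϖ • ((1 : L) ⊗ₜ[R] y) = algebraMap R L ϖ • ((algebraMap R L ϖ) ^ (n - 1) • g)
    rw [smul_smul, ← pow_succ', Nat.sub_add_cancel h0, algebraMap_smul, ← TensorProduct.tmul_smul, ← hy, hx]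

theorem exh_glSpan_of_trig_fibre (h : HopfRep.IsTrigonalizable L (L ⊗[R] A)) :
    Exh (glSpan K (K ⊗[R] A)) := by
  haveI : FaithfulSMul R L := (faithfulSMul_iff_algebraMap_injective R L).2 (IsFractionRing.injective R L)
  refine exh_of_forall_one_tmul K wedge_gl_mono fun a => ?_
  obtain ⟨n, C, h0, ha, hstep⟩ := exists_charChain h ((1 : L) ⊗ₜ[R] a)
  refine ⟨n, ?_⟩
  suffices ∀ i ≤ n, ∀ x : A, (1 : L) ⊗ₜ[R] x ∈ C i → (1 : K) ⊗ₜ[R] x ∈ wedge (glSpan K (K ⊗[R] A)) i from
    this n le_rfl a ha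
  intro i
  induction i with
  | zero =>
    intro _ x hx
    rw [h0, Submodule.mem_bot] at hx
    rw [show x = 0 from one_tmul_injective (R := R) (A := A) L (hx.trans (tmul_zero A (1 : L)).symm), tmul_zero]
    exact Submodule.zero_mem _
  | succ i ih =>
    intro hi x hx
    obtain ⟨χ, hχ, hu⟩ := hstep i (by omega)
    obtain ⟨c, hc, rfl⟩ := exists_integral_groupLike L hχ
    set D := ((C i).restrictScalars R).comap (TensorProduct.mk R L A 1) with hD
    have hmem : bcPair L (Coalgebra.comul (R := R) x - x ⊗ₜ[R] c) ∈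
        LinearMap.range ((C i).subtype.rTensor (L ⊗[R] A)) := by
      rw [map_sub, ← comul_one_tmul, bcPair_tmul]
      exact hu _ hx
    obtain ⟨y, hy⟩ : Coalgebra.comul (R := R) x - x ⊗ₜ[R] c ∈ LinearMap.range (D.subtype.rTensor A) :=
      mem_range_rTensor_comap L (C i) hmem
    have hgl : IsGroupLikeElem K ((1 : K) ⊗ₜ[R] c) := by
      refine ⟨?_, ?_⟩
      · rw [TensorProduct.counit_tmul, hc.counit_eq_one]; simp
      · rw [comul_one_tmul, hc.comul_eq_tmul_self, bcPair_tmul]
    simp only [wedge, Submodule.mem_comap]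
    rw [comul_one_tmul, ← sub_add_cancel (Coalgebra.comul (R := R) x) (x ⊗ₜ[R] c), map_add, bcPair_tmul]
    exact Submodule.add_mem_sup (bcPair_range_rTensor K (fun d hd => ih (by omega) d hd) ⟨y, hy⟩)
      ⟨((1 : K) ⊗ₜ[R] x) ⊗ₜ[K] ⟨_, Submodule.subset_span hgl⟩, rfl⟩

end DVR

end Groth.Agent.CoradFil
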